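import Groth.Agent.L21.InvBundle.Semilinear
import Groth.Agent.L21.Disc.DoubleCover
import Mathlib.AlgebraicGeometry.Morphisms.Etale

/-!
A double cover that is not étale has a point fixed by the involution.
-/

set_option autoImplicit false
set_option backward.isDefEq.respectTransparency false
set_option backward.isDefEq.respectTransparency.types false
set_option linter.style.haveILetI false
universe u

open CategoryTheory CategoryTheory.Limits AlgebraicGeometry TopologicalSpace Opposite
open Groth.L21.Disc (overMap overMap_germ)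
open Groth.L12.SymSq (InvQuot IsFixedScheme)

noncomputable section

namespace Groth.L21.InvBundle

variable {X Y Z : Scheme.{u}} {π : X ⟶ Y} {σ : X ⟶ X}

theorem germ_app_congr' {A B : Scheme.{u}} {f g : A ⟶ B} (h : f = g) (O : B.Opens) (x : A) (hx : f x ∈ O)
    (a : Γ(B, O)) :
    A.presheaf.germ (f ⁻¹ᵁ O) x hx (f.app O a) =
      A.presheaf.germ (g ⁻¹ᵁ O) x (show g x ∈ O from h ▸ hx) (g.app O a) := by
  subst h; rfl

/-- A double cover that is not étale has a fixed point at which the involution is congruent to the identity. -/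
theorem exists_congr_point [IsFinite π] [Flat π] [IsLocallyNoetherian X] [IsLocallyNoetherian Y]
    (h : InvQuot π σ) {Δ : Z ⟶ X} (hΔ : IsFixedScheme σ Δ) (hI : PicF.IsInvertible (ClSub.idealMod Δ.ker))
    (hram : ¬ Etale π) :
    ∃ (x : X) (hx : σ x = x), ∀ a, overMap σ x x hx a - a ∈ IsLocalRing.maximalIdeal (X.presheaf.stalk x) := by
  haveI := hΔ.immersion
  haveI : LocallyOfFinitePresentation π := inferInstance
  have hne : Nonempty Z := by
    by_contra hempty
    haveI := not_nonempty_iff.1 hempty
    refine hram ?_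
    have htop : Δ.ker = ⊤ := by
      rw [← Scheme.IdealSheafData.support_eq_bot_iff]
      refine SetLike.coe_injective ?_
      rw [Scheme.Hom.support_ker, Set.range_eq_empty, closure_empty]
      rfl
    have hF := Groth.L21.DoubleCover.fitt_omega h hΔ hI
    have hcoh := Groth.L15.OmegaCoh.isCoh_omega π
    haveI := hcoh.1
    haveI : FormallyUnramified π := by
      rw [HasRingHomProperty.iff_appLE (P := @FormallyUnramified)]
      intro V U e
      letI : Algebra Γ(Y, V.1) Γ(X, U.1) := (π.appLE V.1 U.1 e).hom.toAlgebra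
      haveI := Groth.L20.ModStalk.finite_sections (Omega.sheaf π) hcoh U.2
      have h1 : Fitt.ideal Γ(X, U.1) Γ(Omega.sheaf π, U.1) 0 = ⊤ := by
        rw [← Groth.L15.FittSheaf.sheafIdeal_ideal _ hcoh.2, hF, htop]
        rfl
      have h2 : Module.annihilator Γ(X, U.1) Γ(Omega.sheaf π, U.1) = ⊤ :=
        top_le_iff.1 (h1 ▸ Groth.L13.Fitting.ideal_zero_le_annihilator)
      haveI := Module.annihilator_eq_top_iff.1 h2
      obtain ⟨θ⟩ := Groth.L15.OmegaCoh.exists_sections_equiv π U.2 V.2 e
      exact ⟨θ.toEquiv.subsingleton⟩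
    exact Etale.of_formallyUnramified_of_flat π
  obtain ⟨z⟩ := hne
  have hx : σ (Δ z) = Δ z := by rw [← Scheme.Hom.comp_apply, hΔ.comp]
  refine ⟨Δ z, hx, fun a => ?_⟩
  have hq : Δ.stalkMap z (overMap σ _ _ hx a) = Δ.stalkMap z a := by
    obtain ⟨O, hO, t, rfl⟩ := X.presheaf.exists_germ_eq a
    rw [overMap_germ σ _ _ hx O hO, Scheme.Hom.germ_stalkMap_apply, Scheme.Hom.germ_stalkMap_apply]
    exact germ_app_congr' hΔ.comp O z (show (Δ ≫ σ) z ∈ O by rw [hΔ.comp]; exact hO) t
  refine (IsLocalRing.mem_maximalIdeal _).2 fun hu => ?_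
  have h0 := hu.map (Δ.stalkMap z).hom
  rw [map_sub, hq, sub_self] at h0
  exact not_isUnit_zero h0

end Groth.L21.InvBundle
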