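import Groth.Agent.L21.InvBundle.Main
import Groth.Agent.L21.InvBundle.Ramified
import Groth.Agent.L12.HypInvol.Fixed
import Groth.Agent.L16.Exist.AlgClosed

/-!
The involution of a double cover of curves.
-/

set_option autoImplicit false
set_option backward.isDefEq.respectTransparency false
set_option backward.isDefEq.respectTransparency.types false
set_option linter.style.haveILetI false
universe u

open CategoryTheory CategoryTheory.Limits AlgebraicGeometry TopologicalSpace Opposite
open Groth.L12.SymSq (InvQuot)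

noncomputable section

namespace Groth.L21.InvBundle

variable {k : Type u} [Field k] {X Y : Scheme.{u}} [X.Over (Spec (CommRingCat.of k))]
  [Y.Over (Spec (CommRingCat.of k))] [IsProper (Y ↘ Spec (CommRingCat.of k))] [IsIntegral Y] {π : X ⟶ Y}
  [IsFinite π] [Flat π]

/-- The involution of a double cover. -/
theorem exists_invol [IsAlgClosed k] [IsProper (X ↘ Spec (CommRingCat.of k))] (h2 : (2 : k) ≠ 0)
    (hπ : π ≫ (Y ↘ Spec (CommRingCat.of k)) = X ↘ Spec (CommRingCat.of k)) (hrk : ∀ y, π.finrank y = 2) :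
    ∃ σ : X ⟶ X, InvQuot π σ ∧ IsIso σ ∧ σ ≠ 𝟙 X ∧
      σ ≫ (X ↘ Spec (CommRingCat.of k)) = X ↘ Spec (CommRingCat.of k) := by
  haveI := Groth.L21.RR.isNoetherian_of_proper (X := Y) k
  haveI : LocallyOfFinitePresentation π := inferInstance
  have h2' := Groth.L12.HypInvol.isUnit_two_sections (k := k) (Y := Y) h2
  obtain ⟨τ, hτπ, hτ2, hQ⟩ := Groth.Agent.L13.DblCov.exists_involution π hrk h2'
  have h : InvQuot π τ.hom := Groth.L12.HypInvol.invQuot_of_isQuot hτ2 hQ h2'
  refine ⟨τ.hom, h, inferInstance, fun hid => ?_, by rw [← hπ, ← Category.assoc, hτπ]⟩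
  haveI : IsIso (ClSub.unitToPush π) := by
    rw [Scheme.Modules.Hom.isIso_iff_isIso_app]
    intro U
    rw [ConcreteCategory.isIso_iff_bijective]
    refine ⟨fun a b hab => h.injective U hab, fun s => ?_⟩
    obtain ⟨a, ha⟩ := h.range U s (by
      rw [Groth.L27.Quot.appLE_eq_of_eq hid]
      simp only [Scheme.Hom.appLE, Scheme.Hom.id_app]
      exact congr($(X.presheaf.map_id (op (π ⁻¹ᵁ U))) s))
    exact ⟨a, ha⟩
  have h1 := Groth.L21.Bundle.rk_iso (asIso (ClSub.unitToPush π))
  rw [Groth.L21.Bundle.rk_eq (Groth.L27.Deg.isFinLocFreeOfRank_push π hrk),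
    Groth.L21.Bundle.rk_eq (Groth.L21.Bundle.locFree_one (Groth.L18.Ample.isInvertible_structureModule Y))] at h1
  omega

/-- A point where the involution of a ramified double cover is congruent to the identity. -/
theorem exists_fixed [IsAlgClosed k] [IsProper (X ↘ Spec (CommRingCat.of k))]
    [Smooth (X ↘ Spec (CommRingCat.of k))] [IsIntegral X] (hdim : topologicalKrullDim X = 1) {σ : X ⟶ X}
    (h : InvQuot π σ) (hσ1 : σ ≠ 𝟙 X) (hσ : σ ≫ (X ↘ Spec (CommRingCat.of k)) = X ↘ Spec (CommRingCat.of k))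
    (hram : ¬ Etale π) :
    ∃ (x : X) (hx : σ x = x), ∀ a,
      Groth.L21.Disc.overMap σ x x hx a - a ∈ IsLocalRing.maximalIdeal (X.presheaf.stalk x) := by
  haveI := Groth.L21.RR.isNoetherian_of_proper (X := X) k
  haveI := Groth.L21.RR.isNoetherian_of_proper (X := Y) k
  exact exists_congr_point h (Groth.L12.HypInvol.isFixedScheme_fix hσ)
    (Groth.L12.HypInvol.isInvertible_fix hσ hσ1 hdim) hram

end Groth.L21.InvBundle
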