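import Groth.Agent.L21.InvBundle.Semilinear
import Groth.Agent.L12.SymSq.Invol
import Groth.Agent.L21.Bundle.Calc
import Groth.Agent.L21.Disc.Cover
import Groth.Agent.L20.ResDescent
import Groth.Agent.L12.StabLimit
import Groth.Agent.L05.CodimFlat.Finite
import Groth.Agent.L17.DeligneHom

/-!
Invariant subsheaves of a bundle pulled back along a double cover descend.
-/

set_option autoImplicit false
set_option backward.isDefEq.respectTransparency false
set_option backward.isDefEq.respectTransparency.types false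
set_option linter.style.haveILetI false
universe u

open CategoryTheory CategoryTheory.Limits AlgebraicGeometry TopologicalSpace Opposite
open Groth.L18.Frame (rs ro pull pull_rs pull_smul)
open Groth.L19.ProjBdl (IsBasisOn coord lc lc_coord)
open Groth.L22.ZeroLocus (stalkBasis stalkBasis_apply)
open Groth.L21.FreeCurve (pgerm pgerm_add pgerm_smul pgerm_rs germ_generic_injective)
open Groth.L21.Disc (overMap overMap_germ)
open Groth.L21.RR (st st_germ st_comp)
open Groth.L12.SymSq (InvQuot)
open Groth.L21.Bundle (rk isCoh_of_rank rk_eq)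

noncomputable section

namespace Groth.L21.InvBundle

variable {X Y : Scheme.{u}} {π : X ⟶ Y} {σ : X ⟶ X}

/-- Morphisms into bundles on integral schemes are zero if they vanish at the generic point. -/
theorem eq_zero_of_st_generic [IsIntegral X] {M N : X.Modules} (hN : FlatMod.IsFinLocFree N) (φ : M ⟶ N)
    (h : ∀ v, st φ (genericPoint X) v = 0) : φ = 0 := by
  refine Scheme.Modules.hom_ext _ _ fun U => ?_
  refine ConcreteCategory.hom_ext _ _ fun m => ?_
  refine TopCat.Presheaf.section_ext ⟨N.presheaf, N.isSheaf⟩ U _ _ fun z hz => ?_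
  have hη : genericPoint X ∈ U := ((genericPoint_spec X).specializes trivial).mem_open U.2 hz
  have h1 : φ.app U m = 0 := by
    refine germ_generic_injective hN hη ?_
    rw [← st_germ, h, map_zero]
  rw [h1]
  rfl

theorem germ_app_congr {f g : X ⟶ Y} (h : f = g) (O : Y.Opens) (x : X) (hx : f x ∈ O) (a : Γ(Y, O)) :
    X.presheaf.germ (f ⁻¹ᵁ O) x hx (f.app O a) =
      X.presheaf.germ (g ⁻¹ᵁ O) x (show g x ∈ O from h ▸ hx) (g.app O a) := by
  subst h; rfl

theorem overMap_overMap (hinv : σ ≫ σ = 𝟙 X) (x : X) (hx : σ x = x) (a : X.presheaf.stalk x) :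
    overMap σ x x hx (overMap σ x x hx a) = a := by
  obtain ⟨O, hO, t, rfl⟩ := X.presheaf.exists_germ_eq a
  rw [overMap_germ σ x x hx O hO, overMap_germ σ x x hx (σ ⁻¹ᵁ O) (show σ x ∈ O from hx.symm ▸ hO)]
  exact germ_app_congr hinv O x (show (σ ≫ σ) x ∈ O by rw [hinv]; exact hO) t

variable [IsIntegral X]

theorem map_generic [IsIso σ] : σ (genericPoint X) = genericPoint X := by
  refine IsGenericPoint.eq ?_ (genericPoint_spec X)
  have := (genericPoint_spec X).image σ.continuous
  rwa [Set.image_univ, σ.surjective.range_eq, closure_univ] at this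

variable [X.IsSeparated]

/-- A nontrivial involution is nontrivial on the function field. -/
theorem exists_anti_function (hinv : σ ≫ σ = 𝟙 X) (hσ1 : σ ≠ 𝟙 X) (hη : σ (genericPoint X) = genericPoint X) :
    ∃ δ : X.functionField, δ ≠ 0 ∧ overMap σ _ _ hη δ = -δ := by
  by_cases hid : ∀ a : X.functionField, overMap σ _ _ hη a = a
  · refine absurd ?_ hσ1
    haveI : IsDominant (X.fromSpecStalk (genericPoint X)) := ⟨by
      refine dense_iff_closure_eq.2 (Set.eq_univ_of_univ_subset ?_)
      rw [← (genericPoint_spec X).def]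
      refine closure_mono (Set.singleton_subset_iff.2 ?_)
      exact ⟨IsLocalRing.closedPoint _, Scheme.fromSpecStalk_closedPoint⟩⟩
    refine ext_of_isDominant_of_isSeparated (terminal.from X) (terminal.hom_ext _ _)
      (X.fromSpecStalk (genericPoint X)) ?_
    have h1 : X.presheaf.stalkSpecializes (specializes_of_eq hη) ≫ σ.stalkMap (genericPoint X) =
        𝟙 (X.presheaf.stalk (genericPoint X)) := CommRingCat.hom_ext (RingHom.ext hid)
    rw [Category.comp_id, ← Scheme.SpecMap_stalkMap_fromSpecStalk, ← Scheme.SpecMap_stalkSpecializes_fromSpecStalk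
      (specializes_of_eq hη), ← Spec.map_comp_assoc, h1, Spec.map_id, Category.id_comp]
  · push Not at hid
    obtain ⟨a, ha⟩ := hid
    exact ⟨a - overMap σ _ _ hη a, sub_ne_zero.2 (Ne.symm ha),
      by rw [map_sub, overMap_overMap hinv, neg_sub]⟩

variable [IsIntegral Y] (h : InvQuot π σ) (hη : σ (genericPoint X) = genericPoint X)

include h in
theorem exists_frac_of_fixed {V : Y.Opens} (hV : IsAffineOpen V) (hxV : π (genericPoint X) ∈ V)
    {z : X.functionField} (hz : overMap σ _ _ hη z = z) :
    ∃ a b : Γ(Y, V), X.presheaf.germ (π ⁻¹ᵁ V) _ hxV (π.app V b) ≠ 0 ∧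
      z * X.presheaf.germ (π ⁻¹ᵁ V) _ hxV (π.app V b) = X.presheaf.germ (π ⁻¹ᵁ V) _ hxV (π.app V a) := by
  haveI := h.affine
  let U := π ⁻¹ᵁ V
  let g : Γ(X, U) →+* X.functionField := (X.presheaf.germ U _ hxV).hom
  haveI : Nonempty U := ⟨⟨_, hxV⟩⟩
  haveI := functionField_isFractionRing_of_isAffineOpen X U (hV.preimage π)
  have hg : Function.Injective g := germ_injective_of_isIntegral X (genericPoint X) (U := U) hxV
  have hact : ∀ p : Γ(X, U), overMap σ _ _ hη (g p) = g (h.act V p) := fun p => by
    refine (overMap_germ σ _ _ hη U hxV p).trans ?_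
    show _ = X.presheaf.germ U _ hxV (X.presheaf.map (homOfLE (h.le_preimage V)).op (σ.app U p))
    exact (X.presheaf.germ_res_apply (homOfLE (h.le_preimage V)) _ _ _).symm
  obtain ⟨p, q, hq, hpq⟩ := IsFractionRing.div_surjective (A := Γ(X, U)) z
  have hq0 : g q ≠ 0 := (map_ne_zero_iff g hg).2 (nonZeroDivisors.ne_zero hq)
  have hz1 : z * g q = g p := by
    rw [← hpq]
    exact div_mul_cancel₀ _ hq0
  obtain ⟨b, hb⟩ := h.range V (q * h.act V q) (by
    show h.act V (q * h.act V q) = q * h.act V q
    rw [map_mul, h.act_act, mul_comm])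
  have hz2 : z * g (q * h.act V q) = g (p * h.act V q) := by rw [map_mul, map_mul, ← mul_assoc, hz1]
  obtain ⟨a, ha⟩ := h.range V (p * h.act V q) (by
    show h.act V (p * h.act V q) = p * h.act V q
    refine hg ?_
    rw [← hact, ← hz2, map_mul (overMap σ _ _ hη), hz, hact]
    congr 2
    rw [map_mul, h.act_act, mul_comm])
  refine ⟨a, b, ?_, ?_⟩
  · show g (π.app V b) ≠ 0
    rw [hb, map_mul]
    refine mul_ne_zero hq0 ((map_ne_zero_iff g hg).2 fun h0 => nonZeroDivisors.ne_zero hq ?_)
    rw [← h.act_act V q, h0, map_zero]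
  · show z * g (π.app V b) = g (π.app V a)
    rw [hb, ha]
    exact hz2

variable {E : Y.Modules} {V : Y.Opens} {n : ℕ} {e : Fin n → Γ(E, V)}
  (hb : IsBasisOn E V e) (hxV : π (genericPoint X) ∈ V)

include h in
/-- Invariant vectors are, up to scalars, pulled back sections. -/
theorem exists_pgerm_of_fixed (hV : IsAffineOpen V)
    {v : ((Scheme.Modules.pullback π).obj E).presheaf.stalk (genericPoint X)}
    (hv : tw (genericPoint X) hη (stalkBasis (hb.pullback π) (show genericPoint X ∈ π ⁻¹ᵁ V from hxV)) v = v) :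
    ∃ (c : X.functionField) (m : Γ(E, V)), c ≠ 0 ∧ c • v = pgerm π E (genericPoint X) hxV m := by
  classical
  set B := stalkBasis (hb.pullback π) (show genericPoint X ∈ π ⁻¹ᵁ V from hxV) with hB
  choose a b hb0 hab using fun l => exists_frac_of_fixed h hη hV hxV
    (z := B.repr v l) (by rw [← repr_tw, hv])
  let g : Γ(Y, V) →+* X.functionField := (X.presheaf.germ (π ⁻¹ᵁ V) _ hxV).hom.comp (π.app V).hom
  refine ⟨∏ l, g (b l), ∑ l, (a l * ∏ j ∈ Finset.univ.erase l, b j) • e l,
    Finset.prod_ne_zero_iff.2 fun l _ => hb0 l, ?_⟩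
  conv_lhs => rw [← B.sum_repr v, Finset.smul_sum]
  rw [show pgerm π E (genericPoint X) hxV (∑ l, _) = ∑ l, pgerm π E (genericPoint X) hxV _ from
    map_sum (AddMonoidHom.mk' (pgerm π E (genericPoint X) hxV) (pgerm_add E (genericPoint X) hxV)) _ _]
  refine Finset.sum_congr rfl fun l _ => ?_
  rw [pgerm_smul, ← mul_smul, Scheme.Hom.germ_stalkMap_apply]
  refine congrArg₂ (· • ·) ?_ (stalkBasis_apply (hb.pullback π) _ l)
  show _ = g (a l * ∏ j ∈ Finset.univ.erase l, b j)
  rw [map_mul, map_prod, ← Finset.mul_prod_erase Finset.univ _ (Finset.mem_univ l), mul_comm _ (B.repr v l),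
    ← mul_assoc]
  exact congrArg (· * _) (hab l)

variable [IsLocallyNoetherian X] [IsLocallyNoetherian Y] [IsFinite π] [Flat π]
  (hregX : ∀ x : X, IsRegularLocalRing (X.presheaf.stalk x)) (hdX : topologicalKrullDim X ≤ 1)
  (hregY : ∀ y : Y, IsRegularLocalRing (Y.presheaf.stalk y)) (hdY : topologicalKrullDim Y ≤ 1)

include hη hb hxV h hregX hdX hregY hdY in
/-- A map whose generic image is invariant factors through the pullback of a subsheaf of the same rank. -/
theorem descend (hσ1 : σ ≠ 𝟙 X) (hV : IsAffineOpen V) {r : ℕ} (hE : FlatMod.IsFinLocFreeOfRank r E)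
    {G : X.Modules} (hG : Coh.IsCoh G) (φ : G ⟶ (Scheme.Modules.pullback π).obj E)
    (hφ : ∀ g, ∃ g', st φ (genericPoint X) g' =
      tw (genericPoint X) hη (stalkBasis (hb.pullback π) (show genericPoint X ∈ π ⁻¹ᵁ V from hxV))
        (st φ (genericPoint X) g)) :
    ∃ (b : ℕ) (F' : Y.Modules) (i' : F' ⟶ E), Mono i' ∧ FlatMod.IsFinLocFreeOfRank b F' ∧
      Mono ((Scheme.Modules.pullback π).map i') ∧
      (∃ ψ, ψ ≫ (Scheme.Modules.pullback π).map i' = φ) ∧ b + rk (cokernel φ) = r ∧
      (Mono φ → FlatMod.IsFinLocFree (cokernel φ) →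
        ∃ χ, χ ≫ φ = (Scheme.Modules.pullback π).map i') := by
  classical
  have hP := Groth.L12.StabLimit.isFinLocFreeOfRank_pullback π hE
  have hcP := isCoh_of_rank hP
  have hcK := Groth.L21.Bundle.coh_cokernel hG hcP φ
  obtain ⟨Q, p, hp, hKc, hK0, hQ⟩ := Groth.L21.Bundle.exists_locFree_quotient hregX hdX hcK
  haveI := hp
  set q := cokernel.π φ ≫ p with hq
  haveI : LocallyOfFinitePresentation π := inferInstance
  have hQf := Groth.L22.CurveDeg.isFinLocFree_of_rank hQ
  obtain ⟨m, hm⟩ := Groth.L21.Disc.exists_rank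
    (Groth.L20.ResDescent.isFinLocFree_push π ⟨inferInstance, inferInstance, inferInstance⟩ Q hQf)
  let u : E ⟶ (Scheme.Modules.pushforward π).obj Q :=
    (Scheme.Modules.pullbackPushforwardAdjunction π).homEquiv E Q q
  have hu : ∀ (W : Y.Opens) (t : Γ(E, W)), u.app W t = q.app (π ⁻¹ᵁ W) (pull π E W t) := fun W t => by
    show ((Scheme.Modules.pullbackPushforwardAdjunction π).homEquiv E Q q).app W t = _
    rw [Adjunction.homEquiv_unit]
    rfl
  let C := Abelian.image u
  let c : E ⟶ C := Abelian.factorThruImage u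
  haveI : Epi c := inferInstanceAs (Epi (Abelian.factorThruImage u))
  have hcE := isCoh_of_rank hE
  have hC := Groth.L21.Bundle.locFree_of_mono hregY hdY (Abelian.image.ι u)
    (Groth.L21.Bundle.coh_image hcE (isCoh_of_rank hm) u) hm
  have hcF := Groth.L21.Bundle.coh_kernel hcE (isCoh_of_rank hC) c
  have hF := Groth.L21.Bundle.locFree_of_mono hregY hdY (kernel.ι c) hcF hE
  let P := Scheme.Modules.pullback π
  have hPF := Groth.L12.StabLimit.isFinLocFreeOfRank_pullback π hF
  have hPC := Groth.L12.StabLimit.isFinLocFreeOfRank_pullback π hC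
  haveI := Groth.L29.RelPC.preservesFiniteLimits_pullback (f := π)
  have hex := (Groth.L21.Bundle.shortExact_kernel c).map_of_exact P
  haveI := hex.mono_f
  haveI : Mono (P.map (kernel.ι c)) := hex.mono_f
  -- the pulled back subsheaf lies in the kernel of `q`
  have h1 : P.map (kernel.ι c) ≫ q = 0 := by
    refine ((Scheme.Modules.pullbackPushforwardAdjunction π).homEquiv _ _).injective ?_
    rw [Adjunction.homEquiv_naturality_left]
    show kernel.ι c ≫ u = _
    rw [← Abelian.image.fac u, show Abelian.factorThruImage u = c from rfl, kernel.condition_assoc, zero_comp,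
      Adjunction.homEquiv_unit, Functor.map_zero, comp_zero]
  -- invariant vectors of the generic image lie in the pulled back subsheaf
  set B := stalkBasis (hb.pullback π) (show genericPoint X ∈ π ⁻¹ᵁ V from hxV) with hB
  have hker : ∀ v, tw (genericPoint X) hη B v = v → st q (genericPoint X) v = 0 →
      st (P.map c) (genericPoint X) v = 0 := by
    intro v hv hqv
    obtain ⟨a, t, ha, hat⟩ := exists_pgerm_of_fixed h hη hb hxV hV hv
    have h2 : q.app (π ⁻¹ᵁ V) (pull π E V t) = 0 := by
      refine germ_generic_injective hQf (U := π ⁻¹ᵁ V) hxV ?_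
      rw [map_zero, ← st_germ]
      show st q (genericPoint X) (pgerm π E (genericPoint X) hxV t) = 0
      rw [← hat, map_smul, hqv, smul_zero]
    have h3 : c.app V t = 0 := by
      refine Groth.L17.DeligneHom.app_injective (Abelian.image.ι u) V ?_
      rw [map_zero]
      have h4 := hu V t
      rw [h2] at h4
      refine Eq.trans ?_ h4
      conv_rhs => rw [← Abelian.image.fac u]
      rfl
    have h5 : st (P.map c) (genericPoint X) (a • v) = 0 := by
      rw [hat, pgerm, st_germ, Groth.L17.BC.PullSec.map_pull, h3]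
      simp only [pull, map_zero]
    rw [map_smul] at h5
    exact (smul_eq_zero.1 h5).resolve_left ha
  -- every vector of the generic image lies in it
  have hinv := overMap_overMap h.invol (genericPoint X) hη
  obtain ⟨δ, hδ0, hδ⟩ := exists_anti_function h.invol hσ1 hη
  have h2K : (2 : X.functionField) ≠ 0 := by
    have h6 := ((h.two_isUnit V).map (π.app V).hom).map (X.presheaf.germ (π ⁻¹ᵁ V) (genericPoint X) hxV).hom
    rw [map_ofNat, map_ofNat] at h6
    exact h6.ne_zero
  have hrange : ∀ g, st q (genericPoint X) (st φ (genericPoint X) g) = 0 := fun g => by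
    have h0 : st (φ ≫ cokernel.π φ) (genericPoint X) g = 0 := by
      rw [cokernel.condition, st, Functor.map_zero]
      rfl
    rw [hq, st_comp, ← st_comp φ, h0, map_zero]
  have h2 : φ ≫ P.map c = 0 := by
    refine eq_zero_of_st_generic (Groth.L22.CurveDeg.isFinLocFree_of_rank hPC) _ fun g => ?_
    rw [st_comp]
    set v := st φ (genericPoint X) g with hvdef
    obtain ⟨g', hg'⟩ := hφ g
    have hqv : st q (genericPoint X) v = 0 := hrange g
    have hqw : st q (genericPoint X) (tw (genericPoint X) hη B v) = 0 := by rw [← hg']; exact hrange g'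
    have hp1 := hker (v + tw (genericPoint X) hη B v) (by rw [tw_add, tw_tw _ _ _ hinv, add_comm])
      (by rw [map_add, hqv, hqw, add_zero])
    have hm1 := hker (δ • (v - tw (genericPoint X) hη B v)) (by
      rw [tw_smul, tw_sub, tw_tw _ _ _ hinv, hδ, neg_smul, ← smul_neg, neg_sub])
      (by rw [map_smul, map_sub, hqv, hqw, sub_zero, smul_zero])
    rw [map_add] at hp1
    rw [map_smul, smul_eq_zero, map_sub] at hm1
    have hm2 := hm1.resolve_left hδ0
    have hsum : (2 : X.functionField) • st (P.map c) (genericPoint X) v = 0 := by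
      rw [two_smul]
      calc _ = (st (P.map c) (genericPoint X) v + st (P.map c) (genericPoint X) (tw (genericPoint X) hη B v)) +
            (st (P.map c) (genericPoint X) v - st (P.map c) (genericPoint X) (tw (genericPoint X) hη B v)) := by abel
        _ = 0 := by rw [hp1, hm2, add_zero]
    exact (smul_eq_zero.1 hsum).resolve_left h2K
  let ψ : G ⟶ P.obj (kernel c) := hex.exact.lift φ h2
  have hψ : ψ ≫ P.map (kernel.ι c) = φ := hex.exact.lift_f φ h2
  -- ranks
  have hrk : rk (kernel c) + rk (cokernel φ) = r := by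
    have e1 : rk ((Scheme.Modules.pullback π).obj E) = rk (Abelian.image φ) + rk (cokernel φ) :=
      Groth.L21.Bundle.rk_add (S := ShortComplex.mk (kernel.ι (cokernel.π φ)) (cokernel.π φ) (kernel.condition _))
        (Groth.L21.Bundle.shortExact_kernel _) hcP
    let a : Abelian.image φ ⟶ P.obj (kernel c) := hex.exact.lift (Abelian.image.ι φ) (by
      rw [← cancel_epi (Abelian.factorThruImage φ), comp_zero]
      exact (Category.assoc _ _ _).symm.trans ((congrArg (· ≫ P.map c) (Abelian.image.fac φ)).trans h2))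
    haveI : Mono (a ≫ P.map (kernel.ι c)) := by
      rw [show a ≫ P.map (kernel.ι c) = Abelian.image.ι φ from hex.exact.lift_f _ _]
      infer_instance
    haveI : Mono a := mono_of_mono a (P.map (kernel.ι c))
    haveI : Epi q := epi_comp _ _
    have e2 := Groth.L21.Bundle.rk_le_of_mono a
      (Groth.L21.Bundle.coh_image hG hcP φ) (isCoh_of_rank hPF)
    have e3 := Groth.L21.Bundle.rk_le_of_mono (kernel.lift q (P.map (kernel.ι c)) h1)
      (isCoh_of_rank hPF) (Groth.L21.Bundle.coh_kernel hcP (isCoh_of_rank hQ) q)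
    have e4 : rk ((Scheme.Modules.pullback π).obj E) = rk (kernel q) + rk Q :=
      Groth.L21.Bundle.rk_add (S := ShortComplex.mk (kernel.ι q) q (kernel.condition q))
        (Groth.L21.Bundle.shortExact_kernel _) hcP
    rw [rk_eq hPF] at e2 e3
    rw [rk_eq hP] at e1 e4
    rw [rk_eq hQ] at e4
    omega
  refine ⟨rk (kernel c), kernel c, kernel.ι c, inferInstance, hF, inferInstance, ⟨ψ, hψ⟩, hrk, fun hφm hcl => ?_⟩
  obtain ⟨s, hs⟩ := Groth.L21.Disc.exists_rank hcl
  have hKz : IsZero (kernel p) := by
    have := Groth.L21.Bundle.locFree_of_mono hregX hdX (kernel.ι p) hKc hs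
    rw [hK0] at this
    exact Groth.L21.Bundle.isZero_of_rank_zero this
  haveI : Mono p := Preadditive.mono_of_isZero_kernel p hKz
  haveI := hφm
  have hzero : P.map (kernel.ι c) ≫ cokernel.π φ = 0 := by
    rw [← cancel_mono p, Category.assoc, ← hq, h1, zero_comp]
  exact ⟨Abelian.monoLift φ (P.map (kernel.ι c)) hzero, Abelian.monoLift_comp _ _ _⟩

end Groth.L21.InvBundle
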