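import Groth.Agent.L21.InvBundle.Descent
import Groth.Agent.L21.Bundle.Twist
import Groth.Agent.L21.CastSev.Basic
import Groth.Agent.L16.Devissage

/-!
Pullbacks of stable bundles along ramified double covers are stable.
-/

set_option autoImplicit false
set_option backward.isDefEq.respectTransparency false
set_option backward.isDefEq.respectTransparency.types false
set_option linter.style.haveILetI false
universe u

open CategoryTheory CategoryTheory.Limits AlgebraicGeometry TopologicalSpace Opposite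
open Groth.L19.ProjBdl (IsBasisOn)
open Groth.L22.ZeroLocus (stalkBasis stalkBasis_apply)
open Groth.L21.Disc (overMap)
open Groth.L21.RR (st st_comp)
open Groth.L12.SymSq (InvQuot)
open Groth.L21.Bundle (rk dg dg_eq isCoh_of_rank rk_eq)

noncomputable section

namespace Groth.L21.InvBundle

variable (k : Type u) [Field k] {X Y : Scheme.{u}} [X.Over (Spec (CommRingCat.of k))]
  [Y.Over (Spec (CommRingCat.of k))] [IsProper (X ↘ Spec (CommRingCat.of k))]
  [IsProper (Y ↘ Spec (CommRingCat.of k))] [IsIntegral X] [IsIntegral Y]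

/-- Degrees of pulled back bundles. -/
theorem dg_pullback [IsLocallyNoetherian X] (hd : topologicalKrullDim Y = 1) (f : X ⟶ Y) [IsFinite f] [Flat f]
    (hf : f ≫ (Y ↘ Spec (CommRingCat.of k)) = X ↘ Spec (CommRingCat.of k)) {n : ℕ}
    (hrk : ∀ y, f.finrank y = n) {r : ℕ} {M : Y.Modules} (hM : FlatMod.IsFinLocFreeOfRank r M) :
    dg k ((Scheme.Modules.pullback f).obj M) = (n : ℤ) * dg k M := by
  haveI := Groth.L21.RR.isNoetherian_of_proper (X := X) k
  haveI := Groth.L21.RR.isNoetherian_of_proper (X := Y) k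
  haveI := Groth.L21.CastSev.isSeparated_of_proper (k := k) (Y := Y)
  haveI : LocallyOfFinitePresentation f := inferInstance
  have hE := Groth.L27.Deg.isFinLocFreeOfRank_push f hrk
  have h1 := Groth.L22.CurveDeg.phi_eq_of_integral k hd hM (Groth.L21.Bundle.isCoh_of_rank hE)
  rw [Groth.L22.CurveDeg.phi_push k f hf hM _
      Groth.L16.CohClosedPush.isCoh_structure.1,
    Groth.L22.CurveDeg.phi_structure, Groth.L21.Bundle.len_eq_rk (Groth.L21.Bundle.isCoh_of_rank hE),
    Groth.L21.Bundle.rk_eq hE, dg_eq k (Groth.L12.StabLimit.isFinLocFreeOfRank_pullback f hM), dg_eq k hM] at h1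
  exact h1

omit [Y.Over (Spec (CommRingCat.of k))] [IsProper (Y ↘ Spec (CommRingCat.of k))] [IsIntegral Y] in
/-- Pulling back along an automorphism over the base preserves degrees. -/
theorem dg_pullback_auto [IsLocallyNoetherian X] (hd : topologicalKrullDim X = 1) (σ : X ⟶ X) [IsIso σ]
    (hσ : σ ≫ (X ↘ Spec (CommRingCat.of k)) = X ↘ Spec (CommRingCat.of k)) {r : ℕ} {M : X.Modules}
    (hM : FlatMod.IsFinLocFreeOfRank r M) : dg k ((Scheme.Modules.pullback σ).obj M) = dg k M := by
  rw [dg_pullback k hd σ hσ (n := 1) (fun y => by rw [Scheme.Hom.finrank_eq_one_of_isIso]; rfl) hM]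
  simp

section Stalk

variable {X : Scheme.{u}}

theorem st_total {A B : X.Modules} (x : X) (g : (A ⊞ B).presheaf.stalk x) :
    st (biprod.inl : A ⟶ A ⊞ B) x (st biprod.fst x g) + st (biprod.inr : B ⟶ A ⊞ B) x (st biprod.snd x g) = g := by
  have h := congrArg (fun φ => st φ x g) (biprod.total (X := A) (Y := B))
  rw [← st_comp, ← st_comp]
  refine Eq.trans ?_ (h.trans (by rw [st, CategoryTheory.Functor.map_id]; rfl))
  show _ = st (biprod.fst ≫ biprod.inl + biprod.snd ≫ biprod.inr) x g
  simp only [st, Functor.map_add]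
  rfl

theorem st_eq {A B : X.Modules} {f g : A ⟶ B} (h : f = g) (x : X) (v : A.presheaf.stalk x) : st f x v = st g x v := by
  rw [h]

theorem st_desc {A B C : X.Modules} (f : A ⟶ C) (g : B ⟶ C) (x : X) (a : A.presheaf.stalk x)
    (b : B.presheaf.stalk x) :
    st (biprod.desc f g) x (st biprod.inl x a + st biprod.inr x b) = st f x a + st g x b := by
  rw [map_add, ← st_comp, ← st_comp, biprod.inl_desc, biprod.inr_desc]

theorem st_exact_kernel {A B : X.Modules} (d : A ⟶ B) (x : X) (v : A.presheaf.stalk x) (h : st d x v = 0) :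
    ∃ u, st (kernel.ι d) x u = v := by
  have hex := (ShortComplex.exact_of_f_is_kernel (ShortComplex.mk (kernel.ι d) d (kernel.condition d))
    (kernelIsKernel d)).map (Groth.L00.Stk.F X x)
  exact (ShortComplex.moduleCat_exact_iff _).1 hex v h

end Stalk

variable {π : X ⟶ Y} {σ : X ⟶ X}

omit [X.Over (Spec (CommRingCat.of k))] [Y.Over (Spec (CommRingCat.of k))]
  [IsProper (X ↘ Spec (CommRingCat.of k))] [IsProper (Y ↘ Spec (CommRingCat.of k))] [IsIntegral Y] in
/-- Every vector of the conjugate image is a conjugate. -/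
theorem exists_conj_preimage [IsIso σ] (hinv : σ ≫ σ = 𝟙 X) (hσπ : σ ≫ π = π)
    (hη : σ (genericPoint X) = genericPoint X) {E : Y.Modules}
    {V : Y.Opens} {n : ℕ} {e : Fin n → Γ(E, V)} (hb : IsBasisOn E V e) (hxV : π (genericPoint X) ∈ V) {F : X.Modules}
    {r' : ℕ} (hF : FlatMod.IsFinLocFreeOfRank r' F) (i : F ⟶ (Scheme.Modules.pullback π).obj E) [Mono i]
    (u : ((Scheme.Modules.pullback σ).obj F).presheaf.stalk (genericPoint X)) :
    ∃ g, st (conj hσπ i) (genericPoint X) u =
      tw (genericPoint X) hη (stalkBasis (hb.pullback π) (show genericPoint X ∈ π ⁻¹ᵁ V from hxV))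
        (st i (genericPoint X) g) := by
  obtain ⟨θ⟩ := Groth.L22.CurveDeg.nonempty_stalk_equiv hF (genericPoint X)
  obtain ⟨θ'⟩ := Groth.L22.CurveDeg.nonempty_stalk_equiv (Groth.L12.StabLimit.isFinLocFreeOfRank_pullback σ hF)
    (genericPoint X)
  set B := stalkBasis (hb.pullback π) (show genericPoint X ∈ π ⁻¹ᵁ V from hxV)
  let bF : Module.Basis (Fin r') X.functionField (F.presheaf.stalk (genericPoint X)) := Module.Basis.ofEquivFun θ.symm
  choose ul hul using fun l => tw_mem_range_conj hσπ hb (genericPoint X) hη hxV i (bF l)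
  have hss := overMap_overMap hinv (genericPoint X) hη
  have hsum : ∀ c : Fin r' → X.functionField, st (conj hσπ i) (genericPoint X) (∑ l, c l • ul l) =
      tw (genericPoint X) hη B (st i (genericPoint X) (∑ l, overMap σ _ _ hη (c l) • bF l)) := fun c => by
    rw [map_sum, map_sum, show tw (genericPoint X) hη B (∑ l, _) = ∑ l, tw (genericPoint X) hη B _ from
      map_sum (AddMonoidHom.mk' (tw (genericPoint X) hη B) (tw_add _ hη B)) _ _]
    refine Finset.sum_congr rfl fun l _ => ?_
    rw [map_smul, map_smul, tw_smul, hss, hul l]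
  have hli : LinearIndependent X.functionField ul := by
    rw [Fintype.linearIndependent_iff]
    intro c hc l
    have h1 := hsum c
    rw [hc, map_zero] at h1
    have h2 := congrArg (tw (genericPoint X) hη B) h1
    rw [tw_zero, tw_tw _ _ _ hss] at h2
    have h3 : ∑ l, overMap σ _ _ hη (c l) • bF l = 0 :=
      Groth.L21.Bundle.injective_sm i (genericPoint X) (h2.symm.trans (map_zero _).symm)
    have h4 := Fintype.linearIndependent_iff.1 bF.linearIndependent _ h3 l
    rw [← hss (c l), h4, map_zero]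
  haveI : Module.Finite X.functionField (((Scheme.Modules.pullback σ).obj F).presheaf.stalk (genericPoint X)) :=
    Module.Finite.equiv θ'
  have hspan := hli.span_eq_top_of_card_eq_finrank' (by
    rw [Fintype.card_fin]
    exact (Module.finrank_fin_fun X.functionField).symm.trans θ'.finrank_eq)
  obtain ⟨c, hc⟩ := (Submodule.mem_span_range_iff_exists_fun _).1 (hspan.symm ▸ Submodule.mem_top : u ∈ _)
  exact ⟨_, by rw [← hc]; exact hsum c⟩

/-- Stable bundles stay stable on a ramified double cover. -/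
theorem stable_pullback [IsLocallyNoetherian X] [IsLocallyNoetherian Y] [IsFinite π] [Flat π] [IsIso σ]
    (hdimX : topologicalKrullDim X = 1) (hdimY : topologicalKrullDim Y = 1)
    (hregX : ∀ x : X, IsRegularLocalRing (X.presheaf.stalk x)) (hregY : ∀ y : Y, IsRegularLocalRing (Y.presheaf.stalk y))
    (hπ : π ≫ (Y ↘ Spec (CommRingCat.of k)) = X ↘ Spec (CommRingCat.of k)) (hrk : ∀ y, π.finrank y = 2)
    (hσ : σ ≫ (X ↘ Spec (CommRingCat.of k)) = X ↘ Spec (CommRingCat.of k)) (h : InvQuot π σ) (hσ1 : σ ≠ 𝟙 X)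
    (x₀ : X) (hx₀ : σ x₀ = x₀)
    (hcongr : ∀ a, overMap σ x₀ x₀ hx₀ a - a ∈ IsLocalRing.maximalIdeal (X.presheaf.stalk x₀))
    {r : ℕ} {E : Y.Modules} (hE : FlatMod.IsFinLocFreeOfRank r E)
    (hst : ∀ (F : Y.Modules) (r' : ℕ) (i : F ⟶ E), Mono i → 0 < r' → r' < r → FlatMod.IsFinLocFreeOfRank r' F →
      Curv2.deg k Y F r' * (r : ℤ) < Curv2.deg k Y E r * (r' : ℤ))
    {F : X.Modules} {r' : ℕ} (i : F ⟶ (Scheme.Modules.pullback π).obj E) [Mono i] (h0 : 0 < r') (hlt : r' < r)
    (hF : FlatMod.IsFinLocFreeOfRank r' F) :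
    dg k F * (r : ℤ) < dg k ((Scheme.Modules.pullback π).obj E) * (r' : ℤ) := by
  haveI : X.IsSeparated := Groth.L21.CastSev.isSeparated_of_proper (k := k) (Y := X)
  have hη := map_generic (σ := σ)
  have hP := Groth.L12.StabLimit.isFinLocFreeOfRank_pullback π hE
  have hcP := isCoh_of_rank hP
  have hcE := isCoh_of_rank hE
  have hd2 : dg k ((Scheme.Modules.pullback π).obj E) = 2 * dg k E := by
    rw [dg_pullback k hdimY π hπ hrk hE]; simp
  -- the bound for subsheaves of `E`
  have hbd : ∀ (b : ℕ) (G : Y.Modules) (j : G ⟶ E), Mono j → FlatMod.IsFinLocFreeOfRank b G →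
      dg k G * (r : ℤ) ≤ dg k E * (b : ℤ) ∧ (0 < b → b < r → dg k G * (r : ℤ) < dg k E * (b : ℤ)) := by
    intro b G j hj hG
    haveI := hj
    have hs : 0 < b → b < r → dg k G * (r : ℤ) < dg k E * (b : ℤ) := fun hb0 hbr => by
      have := hst G b j hj hb0 hbr hG
      rwa [dg_eq k hG, dg_eq k hE] at this
    refine ⟨?_, hs⟩
    rcases Nat.eq_zero_or_pos b with hb0 | hb0
    · subst hb0
      rw [(Groth.L21.Bundle.zero_facts k hdimY.le (Groth.L21.Bundle.isZero_of_rank_zero hG)).2]
      simp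
    · have hle := Groth.L21.Bundle.rk_le_of_mono j (isCoh_of_rank hG) hcE
      rw [rk_eq hG, rk_eq hE] at hle
      rcases lt_or_eq_of_le hle with hbr | hbr
      · exact (hs hb0 hbr).le
      · subst hbr
        exact mul_le_mul_of_nonneg_right (Groth.L21.Bundle.dg_le_of_mono hdimY.le k j (isCoh_of_rank hG) hcE
          (by rw [rk_eq hG, rk_eq hE])).1 (by positivity)
  obtain ⟨V, n, e, hV, hxV, -, hb⟩ := Groth.L19.ProjBdl.exists_basisOn
    (Groth.L22.CurveDeg.isFinLocFree_of_rank hE) (π (genericPoint X)) ⊤ trivial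
  set B := stalkBasis (hb.pullback π) (show genericPoint X ∈ π ⁻¹ᵁ V from hxV) with hB
  have hF' := Groth.L12.StabLimit.isFinLocFreeOfRank_pullback σ hF
  have hcF := isCoh_of_rank hF
  have hcF' := isCoh_of_rank hF'
  haveI := mono_conj h.comp i
  let ci := conj h.comp i
  let d : F ⊞ (Scheme.Modules.pullback σ).obj F ⟶ (Scheme.Modules.pullback π).obj E := biprod.desc i ci
  have hss := overMap_overMap h.invol (genericPoint X) hη
  -- images of the conjugation
  have hto : ∀ f, ∃ u, st ci (genericPoint X) u = tw (genericPoint X) hη B (st i (genericPoint X) f) :=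
    fun f => tw_mem_range_conj h.comp hb (genericPoint X) hη hxV i f
  have hfrom : ∀ u, ∃ g, tw (genericPoint X) hη B (st ci (genericPoint X) u) = st i (genericPoint X) g := fun u => by
    obtain ⟨g, hg⟩ := exists_conj_preimage h.invol h.comp hη hb hxV hF i u
    refine ⟨g, ?_⟩
    rw [show st ci (genericPoint X) u = _ from hg, tw_tw _ _ _ hss]
  have hsplit : (ShortComplex.mk (biprod.inl : F ⟶ F ⊞ (Scheme.Modules.pullback σ).obj F) biprod.snd
      biprod.inl_snd).ShortExact :=
    ShortComplex.Splitting.shortExact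
      { r := biprod.fst
        s := biprod.inr }
  have hcB : Coh.IsCoh (F ⊞ (Scheme.Modules.pullback σ).obj F) :=
    Groth.L16.Devissage.isCoh_biprod hcF hcF'
  have hBr : rk (F ⊞ (Scheme.Modules.pullback σ).obj F) = r' + r' := by
    rw [Groth.L21.Bundle.rk_add hsplit hcB, rk_eq hF, rk_eq hF']
  have hBd : dg k (F ⊞ (Scheme.Modules.pullback σ).obj F) = dg k F + dg k F := by
    refine (Groth.L21.Bundle.dg_add hdimX.le k hsplit hcF hcB hcF').trans ?_
    show dg k F + dg k ((Scheme.Modules.pullback σ).obj F) = _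
    rw [dg_pullback_auto k hdimX σ hσ hF]
  -- the sum
  obtain ⟨bS, S', iS, hiS, hS', hmS, ⟨ψS, hψS⟩, hrS, -⟩ :=
    descend h hη hb hxV hregX hdimX.le hregY hdimY.le hσ1 hV hE hcB d fun g => by
      obtain ⟨u, hu⟩ := hto (st biprod.fst _ g)
      obtain ⟨g', hg'⟩ := hfrom (st biprod.snd _ g)
      refine ⟨st biprod.inl _ g' + st biprod.inr _ u, ?_⟩
      conv_rhs => rw [← st_total (genericPoint X) g, st_desc, tw_add]
      rw [st_desc, hu, hg', add_comm]
  -- the intersection
  let φK : kernel d ⟶ (Scheme.Modules.pullback π).obj E := (kernel.ι d ≫ biprod.fst) ≫ i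
  haveI : Mono (kernel.ι d ≫ biprod.fst) := by
    refine Preadditive.mono_of_cancel_zero _ fun {W} g hg => ?_
    rw [← cancel_mono (kernel.ι d), zero_comp]
    rw [← Category.assoc] at hg
    refine biprod.hom_ext _ _ (by rw [hg, zero_comp]) ?_
    rw [zero_comp, ← cancel_mono ci, zero_comp]
    have h1 : (g ≫ kernel.ι d) ≫ biprod.desc i ci = 0 := by
      show (g ≫ kernel.ι d) ≫ d = 0
      rw [Category.assoc, kernel.condition, comp_zero]
    rw [biprod.desc_eq, Preadditive.comp_add, ← Category.assoc (g ≫ kernel.ι d) biprod.fst,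
      ← Category.assoc (g ≫ kernel.ι d) biprod.snd, hg, zero_comp, zero_add] at h1
    exact h1
  haveI : Mono φK := mono_comp _ _
  have hcK := Groth.L21.Bundle.coh_kernel hcB hcP d
  obtain ⟨bK, K', iK, hiK, hK', hmK, ⟨ψK, hψK⟩, hrK, -⟩ :=
    descend h hη hb hxV hregX hdimX.le hregY hdimY.le hσ1 hV hE hcK φK fun g => by
      obtain ⟨u, hu⟩ := hto (st biprod.fst _ (st (kernel.ι d) _ g))
      obtain ⟨g', hg'⟩ := hfrom (st biprod.snd _ (st (kernel.ι d) _ g))
      have h1 : st d (genericPoint X) (st (kernel.ι d) _ g) = 0 := by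
        rw [← st_comp, kernel.condition, st, Functor.map_zero]; rfl
      rw [← st_total (genericPoint X) (st (kernel.ι d) _ g), st_desc] at h1
      have h2 := congrArg (tw (genericPoint X) hη B) h1
      rw [tw_add, tw_zero, hg', ← hu] at h2
      obtain ⟨k₀, hk₀⟩ := st_exact_kernel d (genericPoint X) (st biprod.inl _ g' + st biprod.inr _ u) (by
        rw [st_desc, add_comm]; exact h2)
      refine ⟨-k₀, ?_⟩
      rw [st_comp, st_comp, map_neg, hk₀]
      show st i _ (st biprod.fst _ (-(st biprod.inl _ g' + st biprod.inr _ u))) = _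
      rw [map_neg, map_add, ← st_comp biprod.inl biprod.fst, ← st_comp biprod.inr biprod.fst, biprod.inl_fst,
        biprod.inr_fst, st_eq rfl, map_neg]
      rw [show tw (genericPoint X) hη B (st φK (genericPoint X) g) = st ci (genericPoint X) u by
        rw [hu]
        show tw _ _ _ (st ((kernel.ι d ≫ biprod.fst) ≫ i) _ g) = _
        rw [st_comp, st_comp]]
      rw [eq_neg_of_add_eq_zero_left h2]
      refine congrArg Neg.neg (congrArg (st i (genericPoint X)) ?_)
      simp only [st, Functor.map_zero, CategoryTheory.Functor.map_id]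
      show g' + 0 = g'
      rw [add_zero]
  -- ranks and degrees
  haveI := hmS
  haveI := hmK
  obtain ⟨e1, e2⟩ := Groth.L21.Bundle.add_image k hdimX.le d hcB hcP
  have e3 : rk ((Scheme.Modules.pullback π).obj E) = rk (Abelian.image d) + rk (cokernel d) :=
    Groth.L21.Bundle.rk_add (S := ShortComplex.mk (kernel.ι (cokernel.π d)) (cokernel.π d) (kernel.condition _))
      (Groth.L21.Bundle.shortExact_kernel _) hcP
  obtain ⟨e4, -⟩ := Groth.L21.Bundle.add_cokernel k hdimX.le φK hcK hcP
  rw [rk_eq hP] at e3 e4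
  rw [hBr] at e1
  rw [hBd] at e2
  have hS'' := Groth.L12.StabLimit.isFinLocFreeOfRank_pullback π hS'
  have hK'' := Groth.L12.StabLimit.isFinLocFreeOfRank_pullback π hK'
  let aS : Abelian.image d ⟶ (Scheme.Modules.pullback π).obj S' :=
    Abelian.monoLift ((Scheme.Modules.pullback π).map iS) (Abelian.image.ι d) (by
      rw [← cancel_epi (Abelian.factorThruImage d), comp_zero]
      refine (Category.assoc _ _ _).symm.trans ((congrArg (· ≫ cokernel.π _) (Abelian.image.fac d)).trans ?_)
      rw [← hψS, Category.assoc, cokernel.condition, comp_zero])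
  haveI : Mono (aS ≫ (Scheme.Modules.pullback π).map iS) := by
    rw [Abelian.monoLift_comp]; infer_instance
  haveI : Mono aS := mono_of_mono aS ((Scheme.Modules.pullback π).map iS)
  haveI : Mono (ψK ≫ (Scheme.Modules.pullback π).map iK) := by rw [hψK]; infer_instance
  haveI : Mono ψK := mono_of_mono ψK ((Scheme.Modules.pullback π).map iK)
  have hdS := (Groth.L21.Bundle.dg_le_of_mono hdimX.le k aS (Groth.L21.Bundle.coh_image hcB hcP d)
    (isCoh_of_rank hS'') (by rw [rk_eq hS'']; omega)).1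
  have hdK := (Groth.L21.Bundle.dg_le_of_mono hdimX.le k ψK hcK
    (isCoh_of_rank hK'') (by rw [rk_eq hK'']; omega)).1
  rw [dg_pullback k hdimY π hπ hrk hS'] at hdS
  rw [dg_pullback k hdimY π hπ hrk hK'] at hdK
  push_cast at hdS hdK
  obtain ⟨hKle, hKlt⟩ := hbd bK K' iK hiK hK'
  obtain ⟨hSle, hSlt⟩ := hbd bS S' iS hiS hS'
  rw [hd2]
  by_contra hcon
  push Not at hcon
  have hr0 : (0 : ℤ) < r := by exact_mod_cast lt_trans h0 hlt
  have hsum : (bK : ℤ) + bS = 2 * r' := by
    have : bK + bS = 2 * r' := by omega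
    exact_mod_cast this
  have hmain : (dg k F + dg k F) * (r : ℤ) ≤ 2 * (dg k K' * r + dg k S' * r) := by
    rw [e2]
    nlinarith [mul_le_mul_of_nonneg_right hdS hr0.le, mul_le_mul_of_nonneg_right hdK hr0.le]
  have hE2 : dg k E * (bK : ℤ) + dg k E * (bS : ℤ) = 2 * (dg k E * r') := by
    rw [← mul_add, hsum]; ring
  have hmi : rk (Abelian.image d) ≤ r := by omega
  have hKr : rk (kernel d) ≤ r' := by
    have := Groth.L21.Bundle.rk_le_of_mono (kernel.ι d ≫ biprod.fst) hcK hcF
    rwa [rk_eq hF] at this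
  have hbK0 : bK = 0 := by
    by_contra hne
    have := hKlt (Nat.pos_of_ne_zero hne) (by omega)
    linarith
  have hbS : bS = r := by
    by_contra hne
    have := hSlt (by omega) (by omega)
    linarith
  have hKz : IsZero (kernel d) := by
    have hKl := Groth.L21.Bundle.locFree_of_mono hregX hdimX.le φK hcK hP
    rw [show rk (kernel d) = 0 by omega] at hKl
    exact Groth.L21.Bundle.isZero_of_rank_zero hKl
  haveI : Mono d := Preadditive.mono_of_isZero_kernel d hKz
  obtain ⟨hle, hiso⟩ := Groth.L21.Bundle.dg_le_of_mono hdimX.le k d hcB hcP (by rw [rk_eq hP, hBr]; omega)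
  have hr2 : (r : ℤ) = 2 * r' := by rw [← hsum, hbK0, hbS]; simp
  have hdd : dg k (F ⊞ (Scheme.Modules.pullback σ).obj F) = dg k ((Scheme.Modules.pullback π).obj E) := by
    refine le_antisymm hle ?_
    rw [hBd, hd2]
    rw [hr2] at hcon
    have h0' : (0 : ℤ) < r' := by exact_mod_cast h0
    have h5 : 2 * dg k E * (r' : ℤ) ≤ 2 * dg k F * (r' : ℤ) := by linarith [hcon]
    have := le_of_mul_le_mul_right h5 h0'
    linarith
  haveI := hiso hdd
  -- no such decomposition at the fixed point
  obtain ⟨V₀, n₀, e₀, -, hxV₀, -, hb₀⟩ := Groth.L19.ProjBdl.exists_basisOn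
    (Groth.L22.CurveDeg.isFinLocFree_of_rank hE) (π x₀) ⊤ trivial
  obtain ⟨θ⟩ := Groth.L22.CurveDeg.nonempty_stalk_equiv hF x₀
  let f₀ := θ (Pi.single ⟨0, h0⟩ 1)
  obtain ⟨u, hu⟩ := tw_mem_range_conj h.comp hb₀ x₀ hx₀ hxV₀ i f₀
  have hmem := tw_sub_mem x₀ hx₀ (stalkBasis (hb₀.pullback π) (show x₀ ∈ π ⁻¹ᵁ V₀ from hxV₀))
    (v := st i x₀ f₀) (IsLocalRing.maximalIdeal _) hcongr
  rw [← hu] at hmem
  have h6 : st (inv d ≫ biprod.fst) x₀ (st ci x₀ u - st i x₀ f₀) = -f₀ := by
    have h7 : st ci x₀ u - st i x₀ f₀ = st d x₀ (st biprod.inl x₀ (-f₀) + st biprod.inr x₀ u) := by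
      rw [st_desc, map_neg, sub_eq_add_neg, add_comm]
    rw [h7, ← st_comp, IsIso.hom_inv_id_assoc, map_add, ← st_comp biprod.inl biprod.fst,
      ← st_comp biprod.inr biprod.fst, biprod.inl_fst, biprod.inr_fst]
    simp only [st, Functor.map_zero, CategoryTheory.Functor.map_id]
    show -f₀ + 0 = -f₀
    rw [add_zero]
  have h8 := Submodule.mem_map_of_mem (f := θ.symm.toLinearMap.comp (st (inv d ≫ biprod.fst) x₀)) hmem
  rw [Submodule.map_smul'', LinearMap.comp_apply] at h8
  erw [h6] at h8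
  have h9 : (θ.symm (-f₀)) ⟨0, h0⟩ ∈ IsLocalRing.maximalIdeal (X.presheaf.stalk x₀) := by
    have h10 : Submodule.map (LinearMap.proj (R := X.presheaf.stalk x₀) (φ := fun _ : Fin r' => X.presheaf.stalk x₀)
        ⟨0, h0⟩) (IsLocalRing.maximalIdeal (X.presheaf.stalk x₀) •
          (⊤ : Submodule (X.presheaf.stalk x₀) (Fin r' → X.presheaf.stalk x₀))) ≤
        IsLocalRing.maximalIdeal (X.presheaf.stalk x₀) := by
      rw [Submodule.map_smul'']
      exact Submodule.smul_le.2 fun a ha b _ => Ideal.mul_mem_right b _ ha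
    exact h10 (Submodule.mem_map_of_mem (Submodule.smul_mono le_rfl le_top h8))
  simp only [f₀, map_neg, LinearEquiv.symm_apply_apply, Pi.neg_apply, Pi.single_eq_same] at h9
  exact (IsLocalRing.maximalIdeal.isMaximal _).ne_top ((Ideal.eq_top_iff_one _).2 (neg_mem_iff.1 h9))

end Groth.L21.InvBundle
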