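import Groth.Agent.L21.FreeCurve.Main
import Groth.Agent.L11.Bdd.Coh
import Groth.Agent.L29.RelPC.FlatPull
import Groth.Agent.L21.Disc.Local

/-!
The canonical linearization of a pulled back bundle along an involution over the base, on stalks.
-/

set_option autoImplicit false
set_option backward.isDefEq.respectTransparency false
set_option backward.isDefEq.respectTransparency.types false
set_option linter.style.haveILetI false
universe u

open CategoryTheory CategoryTheory.Limits AlgebraicGeometry TopologicalSpace Opposite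
open Groth.L18.Frame (rs ro pull pull_rs pull_smul)
open Groth.L19.ProjBdl (IsBasisOn coord lc lc_coord)
open Groth.L22.ZeroLocus (stalkBasis stalkBasis_apply)
open Groth.L21.FreeCurve (pgerm pgerm_add pgerm_smul pgerm_rs)
open Groth.L21.Disc (overMap overMap_germ)
open Groth.L21.RR (st st_germ st_comp)

noncomputable section

namespace Groth.L21.InvBundle

variable {X Y : Scheme.{u}} {π : X ⟶ Y} {σ : X ⟶ X}

/-- The linearization `σ^* π^* E ≅ π^* E`. -/
def lin (hσπ : σ ≫ π = π) (E : Y.Modules) :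
    (Scheme.Modules.pullback σ).obj ((Scheme.Modules.pullback π).obj E) ⟶ (Scheme.Modules.pullback π).obj E :=
  (Scheme.Modules.pullbackComp σ π).hom.app E ≫ (Scheme.Modules.pullbackCongr hσπ).hom.app E

theorem lin_pull (hσπ : σ ≫ π = π) (E : Y.Modules) (V : Y.Opens) (e : Γ(E, V)) :
    (lin hσπ E).app (σ ⁻¹ᵁ (π ⁻¹ᵁ V))
        (pull σ ((Scheme.Modules.pullback π).obj E) (π ⁻¹ᵁ V) (pull π E V e)) =
      rs ((Scheme.Modules.pullback π).obj E) (le_of_eq (congrArg (fun φ : X ⟶ Y => φ ⁻¹ᵁ V) hσπ))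
        (pull π E V e) := by
  show ((Scheme.Modules.pullbackCongr hσπ).hom.app E).app ((σ ≫ π) ⁻¹ᵁ V)
    (((Scheme.Modules.pullbackComp σ π).hom.app E).app ((σ ≫ π) ⁻¹ᵁ V) _) = _
  exact (congrArg (((Scheme.Modules.pullbackCongr hσπ).hom.app E).app ((σ ≫ π) ⁻¹ᵁ V))
    (Groth.L11.Bdd.Cohe.pullbackComp_hom_pull σ π E V e)).trans
    (Groth.L11.Bdd.Cohe.pullbackCongr_hom_pull hσπ E V e)

/-- The semilinear action of the involution at a fixed point, in coordinates. -/
def tw {M : X.Modules} {n : ℕ} (x : X) (hx : σ x = x)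
    (B : Module.Basis (Fin n) (X.presheaf.stalk x) (M.presheaf.stalk x)) (v : M.presheaf.stalk x) :
    M.presheaf.stalk x :=
  ∑ l, overMap σ x x hx (B.repr v l) • B l

section Tw

variable {M : X.Modules} {n : ℕ} (x : X) (hx : σ x = x)
  (B : Module.Basis (Fin n) (X.presheaf.stalk x) (M.presheaf.stalk x))

theorem tw_add (v w : M.presheaf.stalk x) : tw x hx B (v + w) = tw x hx B v + tw x hx B w := by
  simp only [tw, map_add, Finsupp.add_apply, add_smul, Finset.sum_add_distrib]

theorem tw_smul (a : X.presheaf.stalk x) (v : M.presheaf.stalk x) :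
    tw x hx B (a • v) = overMap σ x x hx a • tw x hx B v := by
  simp only [tw, map_smul, Finsupp.smul_apply, smul_eq_mul, map_mul, Finset.smul_sum, mul_smul]

theorem tw_basis (l : Fin n) : tw x hx B (B l) = B l := by
  classical
  simp only [tw, Module.Basis.repr_self, Finsupp.single_apply]
  rw [Finset.sum_eq_single l (fun l' _ h => by rw [if_neg (Ne.symm h), map_zero, zero_smul])
    (fun h => absurd (Finset.mem_univ l) h), if_pos rfl, map_one, one_smul]

theorem repr_tw (v : M.presheaf.stalk x) (l : Fin n) :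
    B.repr (tw x hx B v) l = overMap σ x x hx (B.repr v l) :=
  congrFun (B.repr_sum_self fun l => overMap σ x x hx (B.repr v l)) l

theorem tw_tw (hinv : ∀ a, overMap σ x x hx (overMap σ x x hx a) = a) (v : M.presheaf.stalk x) :
    tw x hx B (tw x hx B v) = v := by
  conv_rhs => rw [← B.sum_repr v]
  exact Finset.sum_congr rfl fun l _ => by rw [repr_tw, hinv]

theorem tw_zero : tw x hx B 0 = 0 := by simp [tw]

theorem tw_sub (v w : M.presheaf.stalk x) : tw x hx B (v - w) = tw x hx B v - tw x hx B w := by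
  simp only [tw, map_sub, Finsupp.sub_apply, sub_smul, Finset.sum_sub_distrib]

theorem tw_sub_mem {v : M.presheaf.stalk x} (I : Ideal (X.presheaf.stalk x))
    (h : ∀ a, overMap σ x x hx a - a ∈ I) :
    tw x hx B v - v ∈ I • (⊤ : Submodule (X.presheaf.stalk x) (M.presheaf.stalk x)) := by
  conv in _ - v => rw [← B.sum_repr v]
  rw [tw, ← Finset.sum_sub_distrib]
  refine Submodule.sum_mem _ fun l _ => ?_
  rw [B.sum_repr, ← sub_smul]
  exact Submodule.smul_mem_smul (h _) Submodule.mem_top

end Tw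

variable (hσπ : σ ≫ π = π) {E : Y.Modules} {V : Y.Opens} {n : ℕ} {e : Fin n → Γ(E, V)}
  (hb : IsBasisOn E V e) (x : X) (hx : σ x = x) (hxV : π x ∈ V)

include hb in
/-- The linearization on germs. -/
theorem st_lin (W : X.Opens) (hW : x ∈ W) (m : Γ((Scheme.Modules.pullback π).obj E, W)) :
    st (lin hσπ E) x (pgerm σ ((Scheme.Modules.pullback π).obj E) x (show σ x ∈ W from hx.symm ▸ hW) m) =
      tw x hx (stalkBasis (hb.pullback π) (show x ∈ π ⁻¹ᵁ V from hxV))
        (((Scheme.Modules.pullback π).obj E).presheaf.germ W x hW m) := by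
  let W' : X.Opens := W ⊓ π ⁻¹ᵁ V
  have hxW : x ∈ W' := ⟨hW, hxV⟩
  have hσW : σ x ∈ W' := hx.symm ▸ hxW
  rw [← pgerm_rs ((Scheme.Modules.pullback π).obj E) (inf_le_left : W' ≤ W) x hσW m, ← Groth.L20.ModStalk.germ_rs ((Scheme.Modules.pullback π).obj E) (inf_le_left : W' ≤ W) hxW m,
    ← lc_coord (hb.pullback π) (inf_le_right : W' ≤ π ⁻¹ᵁ V) (rs ((Scheme.Modules.pullback π).obj E) inf_le_left m)]
  set c := coord (hb.pullback π) (inf_le_right : W' ≤ π ⁻¹ᵁ V) (rs ((Scheme.Modules.pullback π).obj E) inf_le_left m)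
  have hrep : ∀ l, (stalkBasis (hb.pullback π) (show x ∈ π ⁻¹ᵁ V from hxV)).repr
      (((Scheme.Modules.pullback π).obj E).presheaf.germ W' x hxW (rs ((Scheme.Modules.pullback π).obj E) inf_le_left m)) l = X.presheaf.germ W' x hxW (c l) := fun l =>
    Groth.L21.FreeCurve.repr_germ (hb.pullback π) (inf_le_right : W' ≤ π ⁻¹ᵁ V) _ hxW l
  conv_rhs => rw [tw]
  rw [Finset.sum_congr rfl fun l _ => by rw [lc_coord, hrep l, overMap_germ σ x x hx W' hxW]]
  rw [lc, show pgerm σ ((Scheme.Modules.pullback π).obj E) x hσW (∑ l, _) = ∑ l, pgerm σ ((Scheme.Modules.pullback π).obj E) x hσW _ from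
    map_sum (AddMonoidHom.mk' (pgerm σ ((Scheme.Modules.pullback π).obj E) x hσW) (pgerm_add ((Scheme.Modules.pullback π).obj E) x hσW)) _ _, map_sum]
  refine Finset.sum_congr rfl fun l _ => ?_
  rw [pgerm_smul, map_smul, Scheme.Hom.germ_stalkMap_apply, pgerm_rs]
  refine congrArg _ ?_
  rw [stalkBasis_apply, pgerm, st_germ]
  refine (congrArg (((Scheme.Modules.pullback π).obj E).presheaf.germ _ x _) (lin_pull hσπ E V (e l))).trans ?_
  exact Groth.L20.ModStalk.germ_rs _ _ _ _

/-- The conjugate of a map into a pulled back bundle. -/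
def conj (hσπ : σ ≫ π = π) {E : Y.Modules} {F : X.Modules} (i : F ⟶ (Scheme.Modules.pullback π).obj E) :
    (Scheme.Modules.pullback σ).obj F ⟶ (Scheme.Modules.pullback π).obj E :=
  (Scheme.Modules.pullback σ).map i ≫ lin hσπ E

include hb in
/-- The conjugate map takes the value twisted by the involution. -/
theorem tw_mem_range_conj {F : X.Modules} (i : F ⟶ (Scheme.Modules.pullback π).obj E) (f : F.presheaf.stalk x) :
    ∃ u, st (conj hσπ i) x u = tw x hx (stalkBasis (hb.pullback π) (show x ∈ π ⁻¹ᵁ V from hxV)) (st i x f) := by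
  obtain ⟨O, hO, t, rfl⟩ := TopCat.Presheaf.exists_germ_eq F.presheaf f
  refine ⟨pgerm σ F x (show σ x ∈ O from hx.symm ▸ hO) t, ?_⟩
  rw [st_germ, ← st_lin hσπ hb x hx hxV O hO (i.app O t), conj, st_comp]
  refine congrArg (st (lin hσπ E) x) ?_
  rw [pgerm, st_germ, pgerm]
  exact congrArg _ (Groth.L17.BC.PullSec.map_pull σ i O t)

theorem mono_conj [IsIso σ] {F : X.Modules} (i : F ⟶ (Scheme.Modules.pullback π).obj E) [Mono i] :
    Mono (conj hσπ i) := by
  haveI := Groth.L29.RelPC.preservesFiniteLimits_pullback (f := σ)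
  haveI : IsIso (lin hσπ E) := by unfold lin; infer_instance
  exact mono_comp _ _

end Groth.L21.InvBundle
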